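import Groth.Agent.S2195
import Groth.Agent.CurveP1Lib.DiscrMap
import Mathlib

/-!
A finite flat algebra over a Noetherian ring which is étale over the primes of height at most one is étale
(discriminant argument).
-/

set_option autoImplicit false
set_option backward.isDefEq.respectTransparency false
set_option maxHeartbeats 1000000
set_option linter.style.haveILetI false

universe u

open TensorProduct

namespace Groth.Agent.EtaleCodimLib

/-- An algebra which becomes étale after base change to every localization at a prime is étale. -/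
theorem etale_of_forall_atPrime (A B : Type u) [CommRing A] [CommRing B] [Algebra A B] [Algebra.FinitePresentation A B]
    (h : ∀ (p : Ideal A) [p.IsPrime], Algebra.Etale (Localization.AtPrime p) (Localization.AtPrime p ⊗[A] B)) :
    Algebra.Etale A B := by
  refine Algebra.etaleLocus_eq_univ_iff_etale.1 (Set.eq_univ_of_forall fun q => ?_)
  let p := q.asIdeal.comap (algebraMap A B)
  let R := Localization.AtPrime p
  let C := R ⊗[A] B
  haveI := h p
  letI : Algebra B C := Algebra.TensorProduct.rightAlgebra
  let M := Algebra.algebraMapSubmonoid B p.primeCompl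
  have hle : M ≤ q.asIdeal.primeCompl := by
    rintro _ ⟨s, hs, rfl⟩ hq
    exact hs hq
  letI : Algebra C (Localization.AtPrime q.asIdeal) :=
    (IsLocalization.lift (M := M) (S := C) (g := algebraMap B (Localization.AtPrime q.asIdeal))
      fun s => IsLocalization.map_units _ (⟨s.1, hle s.2⟩ : q.asIdeal.primeCompl)).toAlgebra
  haveI : IsScalarTower B C (Localization.AtPrime q.asIdeal) :=
    IsScalarTower.of_algebraMap_eq fun b => (IsLocalization.lift_eq _ b).symm
  haveI : IsScalarTower A B C := IsScalarTower.of_algebraMap_eq fun a => by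
    show algebraMap A R a ⊗ₜ[A] (1 : B) = (1 : R) ⊗ₜ[A] algebraMap A B a
    rw [Algebra.algebraMap_eq_smul_one, Algebra.algebraMap_eq_smul_one, TensorProduct.smul_tmul]
  haveI : IsScalarTower A C (Localization.AtPrime q.asIdeal) := IsScalarTower.of_algebraMap_eq (R := A) (S := C) (A := Localization.AtPrime q.asIdeal) fun a => by
    rw [IsScalarTower.algebraMap_apply A B C, ← IsScalarTower.algebraMap_apply B C (Localization.AtPrime q.asIdeal),
      ← IsScalarTower.algebraMap_apply A B (Localization.AtPrime q.asIdeal)]
  haveI := IsLocalization.isLocalization_of_is_exists_mul_mem (S := Localization.AtPrime q.asIdeal)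
    q.asIdeal.primeCompl q.asIdeal.primeCompl
  haveI : IsLocalization (q.asIdeal.primeCompl.map (algebraMap B C)) (Localization.AtPrime q.asIdeal) :=
    IsLocalization.isLocalization_of_submonoid_le C (Localization.AtPrime q.asIdeal) M q.asIdeal.primeCompl hle
  haveI : Algebra.FormallyEtale C (Localization.AtPrime q.asIdeal) :=
    Algebra.FormallyEtale.of_isLocalization (q.asIdeal.primeCompl.map (algebraMap B C))
  haveI : Algebra.FormallyEtale A R := Algebra.FormallyEtale.of_isLocalization p.primeCompl
  haveI : Algebra.FormallyEtale A C := Algebra.FormallyEtale.comp A R C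
  exact Algebra.FormallyEtale.comp A C (Localization.AtPrime q.asIdeal)

/-- Finite flat algebras over Noetherian rings, étale at all primes of height at most one, are étale. -/
theorem etale_of_height_le_one (A B : Type u) [CommRing A] [IsNoetherianRing A] [CommRing B] [Algebra A B]
    [Module.Finite A B] [Module.Flat A B]
    (h : ∀ (p : Ideal A) [p.IsPrime], p.height ≤ 1 →
      Algebra.Etale (Localization.AtPrime p) (Localization.AtPrime p ⊗[A] B)) : Algebra.Etale A B := by
  classical
  haveI : Algebra.FinitePresentation A B := Algebra.FinitePresentation.of_finiteType.1 inferInstance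
  refine etale_of_forall_atPrime A B fun p _ => ?_
  let R := Localization.AtPrime p
  haveI : Module.Free R (R ⊗[A] B) := Module.free_of_flat_of_isLocalRing
  let n := Module.finrank R (R ⊗[A] B)
  let b : Module.Basis (Fin n) R (R ⊗[A] B) := Module.finBasis R (R ⊗[A] B)
  refine (S2195.result b).2 ?_
  by_contra hu
  obtain ⟨P, hP, -⟩ := Ideal.exists_minimalPrimes_le
    (J := IsLocalRing.maximalIdeal R) ((Ideal.span_singleton_le_iff_mem _).2 hu : Ideal.span {Algebra.discr R b} ≤ _)
  haveI : P.IsPrime := hP.1.1
  have hP1 : P.height ≤ 1 := Ideal.height_le_one_of_isPrincipal_of_mem_minimalPrimes (Ideal.span {Algebra.discr R b}) P hP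
  let p' := P.comap (algebraMap A R)
  have hp' : p'.height ≤ 1 := by
    rwa [show p'.height = P.height from IsLocalization.height_comap p.primeCompl P]
  let R' := Localization.AtPrime p'
  haveI : Algebra.Etale R' (R' ⊗[A] B) := h p' hp'
  have hle : p.primeCompl ≤ p'.primeCompl := fun s hs hs' =>
    Ideal.IsPrime.ne_top inferInstance (Ideal.eq_top_of_isUnit_mem P hs' (IsLocalization.map_units R (⟨s, hs⟩ : p.primeCompl)))
  letI : Algebra R R' := (IsLocalization.lift (M := p.primeCompl) (S := R) (g := algebraMap A R')
    fun s => IsLocalization.map_units _ (⟨s.1, hle s.2⟩ : p'.primeCompl)).toAlgebra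
  haveI : IsScalarTower A R R' := IsScalarTower.of_algebraMap_eq fun a => (IsLocalization.lift_eq _ a).symm
  haveI : Algebra.Etale R' (R' ⊗[R] (R ⊗[A] B)) :=
    Algebra.Etale.of_equiv (Algebra.TensorProduct.cancelBaseChange A R R' R' B).symm
  let b' : Module.Basis (ULift.{u} (Fin n)) R' (R' ⊗[R] (R ⊗[A] B)) := (b.baseChange R').reindex (Equiv.ulift.{u}).symm
  have hunit := CurveP1Lib.isUnit_discr_of_etale (A := R') (B := R' ⊗[R] (R ⊗[A] B)) b'
  have hd := CurveP1Lib.discr_map (A' := R') (B' := R' ⊗[R] (R ⊗[A] B)) (B := R ⊗[A] B) (algebraMap R R') (Algebra.TensorProduct.includeRight : R ⊗[A] B →ₐ[R] R' ⊗[R] (R ⊗[A] B)).toRingHom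
    (fun r => ((Algebra.TensorProduct.includeRight : R ⊗[A] B →ₐ[R] R' ⊗[R] (R ⊗[A] B)).commutes r).trans (IsScalarTower.algebraMap_apply R R' _ r))
    (b.reindex (Equiv.ulift.{u}).symm) b' fun i => by simp [b']
  rw [hd, show Algebra.discr R (b.reindex (Equiv.ulift.{u}).symm) = Algebra.discr R b by
    rw [Module.Basis.coe_reindex, Equiv.symm_symm]; exact Algebra.discr_reindex R b (Equiv.ulift.{u}).symm] at hunit
  haveI : IsLocalization.AtPrime R' p' := inferInstance
  have hmem : Algebra.discr R b ∈ P := hP.1.2 (Ideal.mem_span_singleton_self _)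
  obtain ⟨a, s, has⟩ := IsLocalization.exists_mk'_eq p.primeCompl (Algebra.discr R b)
  have ha : a ∈ p' := by
    show algebraMap A R a ∈ P
    rw [← IsLocalization.mk'_spec R a s, has]
    exact Ideal.mul_mem_right _ _ hmem
  have : IsUnit (algebraMap A R' a) := by
    rw [IsScalarTower.algebraMap_apply A R R', ← IsLocalization.mk'_spec R a s, has, map_mul]
    exact hunit.mul ((IsLocalization.map_units R s).map _)
  exact (IsLocalization.AtPrime.isUnit_to_map_iff R' p' a).1 this ha

/-- An algebra which is étale away from `g` is étale over the primes not containing `g`. -/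
theorem etale_atPrime_of_away (A B Ag Bg : Type u) [CommRing A] [CommRing B] [Algebra A B] [CommRing Ag] [Algebra A Ag]
    [CommRing Bg] [Algebra B Bg] (g : A) [IsLocalization.Away g Ag] [IsLocalization.Away (algebraMap A B g) Bg]
    (ψ : Ag →+* Bg) (hψ : ψ.Etale) (hc : ∀ a, ψ (algebraMap A Ag a) = algebraMap B Bg (algebraMap A B a))
    (p : Ideal A) [p.IsPrime] (hg : g ∉ p) :
    Algebra.Etale (Localization.AtPrime p) (Localization.AtPrime p ⊗[A] B) := by
  letI : Algebra Ag Bg := ψ.toAlgebra
  haveI : Algebra.Etale Ag Bg := hψ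
  letI : Algebra B (Ag ⊗[A] B) := Algebra.TensorProduct.rightAlgebra
  let e : Ag ⊗[A] B ≃ₐ[B] Bg := IsLocalization.algEquiv (Submonoid.powers (algebraMap A B g)) _ _
  have hsq : ∀ a, e (algebraMap A Ag a ⊗ₜ[A] (1 : B)) = ψ (algebraMap A Ag a) := fun a => by
    rw [hc, Algebra.algebraMap_eq_smul_one, TensorProduct.smul_tmul, ← Algebra.algebraMap_eq_smul_one]
    exact e.commutes _
  let e' : Ag ⊗[A] B ≃ₐ[Ag] Bg := AlgEquiv.ofRingEquiv (f := e.toRingEquiv) fun a => by
    have := IsLocalization.ringHom_ext (Submonoid.powers g)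
      (j := (e.toRingEquiv.toRingHom.comp (algebraMap Ag (Ag ⊗[A] B)))) (k := ψ) (RingHom.ext hsq)
    exact DFunLike.congr_fun this a
  haveI : Algebra.Etale Ag (Ag ⊗[A] B) := Algebra.Etale.of_equiv e'.symm
  letI : Algebra Ag (Localization.AtPrime p) :=
    (IsLocalization.Away.lift g (g := algebraMap A (Localization.AtPrime p))
      (IsLocalization.map_units _ (⟨g, hg⟩ : p.primeCompl))).toAlgebra
  haveI : IsScalarTower A Ag (Localization.AtPrime p) :=
    IsScalarTower.of_algebraMap_eq fun a => (IsLocalization.Away.lift_eq g _ a).symm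
  exact Algebra.Etale.of_equiv
    (Algebra.TensorProduct.cancelBaseChange A Ag (Localization.AtPrime p) (Localization.AtPrime p) B)

end Groth.Agent.EtaleCodimLib
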